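import Groth.Agent.AmpleFamLib.TopVan
import Groth.Agent.AmpleFamLib.CodimOne

/-!
Dimension of the loci of large fibres of a proper morphism, finite over a large open.
-/

set_option autoImplicit false
set_option backward.isDefEq.respectTransparency false
set_option linter.style.haveILetI false

universe u

open CategoryTheory CategoryTheory.Limits AlgebraicGeometry TopologicalSpace

noncomputable section

namespace Groth.Agent.AlterAmpleLib

variable {X Y : Scheme.{u}} (f : Y ⟶ X)

theorem lt_iff_ne {Z : Scheme.{u}} {a b : Z} : a < b ↔ b ⤳ a ∧ a ≠ b := by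
  constructor
  · intro h
    exact ⟨Scheme.le_iff_specializes.1 h.le, fun e => lt_irrefl b (by rw [e] at h; exact h)⟩
  · rintro ⟨h, hne⟩
    exact lt_of_le_not_ge (Scheme.le_iff_specializes.2 h) fun h' =>
      hne ((Scheme.le_iff_specializes.1 h').antisymm h).eq

/-- Chains of specialisations lift along a closed map from the top down. -/
theorem exists_lift_series (hf : SpecializingMap f.base) :
    ∀ (r : ℕ) (s : LTSeries X), s.length = r → ∀ y : Y, f y = s.last →
      ∃ t : LTSeries Y, t.length = r ∧ t.last = y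
  | 0, _, _, y, _ => ⟨RelSeries.singleton _ y, rfl, rfl⟩
  | r + 1, s, hs, y, hy => by
    have hne : s.length ≠ 0 := by omega
    have hlt : s.eraseLast.last < s.last := s.eraseLast_last_rel_last hne
    obtain ⟨hsp, hne'⟩ := lt_iff_ne.1 hlt
    obtain ⟨y', hyy', hy'⟩ := hf (show f y ⤳ s.eraseLast.last from hy ▸ hsp)
    obtain ⟨t, ht, htl⟩ := exists_lift_series hf r s.eraseLast (by simp [RelSeries.eraseLast, hs]) y' hy'
    have hy'lt : y' < y := lt_iff_ne.2 ⟨hyy', fun e => hne' (by rw [← hy', e, hy])⟩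
    exact ⟨t.snoc y (by rw [htl]; exact hy'lt), by simp [ht], RelSeries.last_snoc ..⟩

/-- Points without generalisations are closed in their fibres. -/
def GenFin : Prop := ∀ y z : Y, ringKrullDim (Y.presheaf.stalk y) ≤ 0 → y ⤳ z → f z = f y → z = y

theorem isDiscrete_fibre_over (U : X.Opens) [IsFinite (f ∣_ U)] {y z : Y} (hy : f y ∈ U) (h : y ⤳ z)
    (he : f z = f y) : z = y := by
  have hz : f z ∈ U := by rw [he]; exact hy
  haveI : DiscreteTopology ↥((f ∣_ U) ⁻¹' {(⟨f y, hy⟩ : (U : Scheme.{u}))}) :=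
    ((f ∣_ U).isDiscrete_preimage_singleton ⟨f y, hy⟩).to_subtype
  let a : ↥((f ∣_ U) ⁻¹' {(⟨f y, hy⟩ : (U : Scheme.{u}))}) :=
    ⟨⟨y, hy⟩, Subtype.ext (morphismRestrict_base_coe f U ⟨y, hy⟩)⟩
  let b : ↥((f ∣_ U) ⁻¹' {(⟨f y, hy⟩ : (U : Scheme.{u}))}) :=
    ⟨⟨z, hz⟩, Subtype.ext ((morphismRestrict_base_coe f U ⟨z, hz⟩).trans he)⟩
  have hab : a ⤳ b := by
    rw [subtype_specializes_iff]
    exact (subtype_specializes_iff (⟨y, hy⟩ : (f ⁻¹ᵁ U : Y.Opens)) ⟨z, hz⟩).2 h
  exact (congrArg (fun w : ↥((f ∣_ U) ⁻¹' {(⟨f y, hy⟩ : (U : Scheme.{u}))}) => w.1.1) hab.eq).symm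

/-- The chains in the locus where the fibre dimension exceeds `m` are short. -/
theorem length_add_le [IsProper f] {d : ℕ}
    (hY : topologicalKrullDim Y ≤ (d : WithBot ℕ∞)) (hgen : GenFin f)
    (m : ℕ) (s : LTSeries X) (hs : ¬ topologicalKrullDim ↥(f.fiber s.last) ≤ (m : WithBot ℕ∞)) :
    s.length + m + 2 ≤ d := by
  rw [IsHomeomorph.topologicalKrullDim_eq _ (f.fiberHomeo s.last).isHomeomorph] at hs
  haveI : QuasiSober ↥(f.fiber s.last) := inferInstance
  haveI : QuasiSober ↥(f.base ⁻¹' {s.last}) := (f.fiberHomeo s.last).symm.isOpenEmbedding.quasiSober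
  rw [ASp.topologicalKrullDim_eq_krullDim, Order.krullDim, iSup_le_iff] at hs
  push Not at hs
  obtain ⟨v, hv⟩ := hs
  have hv' : m < v.length := by exact_mod_cast hv
  let u : LTSeries Y :=
    ⟨v.length, fun i => (v.toFun i).1, fun i => lt_iff_ne.2
      ⟨(subtype_specializes_iff _ _).1 (v.step i).1, fun e => (v.step i).2 (by
        rw [show v.toFun i.castSucc = v.toFun i.succ from Subtype.ext e]
        )⟩⟩
  obtain ⟨t, ht, htl⟩ := exists_lift_series f f.isClosedMap.specializingMap s.length s rfl u.head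
    (show f (v.toFun 0).1 = s.last from (v.toFun 0).2)
  let p : LTSeries Y := RelSeries.smash t u htl
  have h1 : (1 : WithBot ℕ∞) ≤ ringKrullDim (Y.presheaf.stalk p.last) := by
    rw [RelSeries.last_smash]
    by_contra h
    have h0 : ringKrullDim (Y.presheaf.stalk u.last) ≤ 0 := by
      rw [ringKrullDim_stalk_eq_coheight] at h ⊢
      have hlt : Order.coheight u.last < 1 := by exact_mod_cast not_le.1 h
      rw [ENat.lt_one_iff_eq_zero] at hlt
      exact_mod_cast hlt.le
    have hhl : u.head < u.last :=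
      u.strictMono (show (⟨0, Nat.succ_pos _⟩ : Fin (u.length + 1)) < Fin.last _ by
        show (0 : ℕ) < v.length
        omega)
    obtain ⟨hsp, hne⟩ := lt_iff_ne.1 hhl
    exact hne (hgen u.last u.head h0 hsp
      ((show f (v.toFun 0).1 = s.last from (v.toFun 0).2).trans
        (show f (v.toFun (Fin.last _)).1 = s.last from (v.toFun (Fin.last _)).2).symm))
  rw [ringKrullDim_stalk_eq_coheight] at h1
  obtain ⟨w, hw, hwl⟩ := Order.exists_series_of_le_coheight p.last (n := 1) (WithBot.coe_le_coe.1 h1)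
  let P : LTSeries Y := RelSeries.smash p w (by rw [hw])
  rw [ASp.topologicalKrullDim_eq_krullDim] at hY
  letI := specializationPreorder Y
  have hlen : P.length = s.length + v.length + 1 := by
    show p.length + w.length = _
    rw [hwl]
    show t.length + u.length + 1 = _
    rw [ht]
  have h2 : P.length ≤ d := by exact_mod_cast (Order.LTSeries.length_le_krullDim P).trans hY
  omega

/-- The locus where the fibre dimension exceeds `m`. -/
def bigLocus (m : ℕ) : Set X := {x | ¬ topologicalKrullDim ↥(f.fiber x) ≤ (m : WithBot ℕ∞)}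

theorem dim_bigLocus [IsProper f] {d : ℕ}
    (hY : topologicalKrullDim Y ≤ (d : WithBot ℕ∞)) (hgen : GenFin f)
    (m : ℕ) (hC : IsClosed (bigLocus f m)) (hne : (bigLocus f m).Nonempty) :
    m + 2 ≤ d ∧ topologicalKrullDim ↥(bigLocus f m) ≤ ((d - (m + 2) : ℕ) : WithBot ℕ∞) := by
  obtain ⟨x, hx⟩ := hne
  refine ⟨by simpa using length_add_le f hY hgen m (RelSeries.singleton _ x) hx, ?_⟩
  haveI : QuasiSober ↥(bigLocus f m) := hC.isClosedEmbedding_subtypeVal.quasiSober
  rw [ASp.topologicalKrullDim_eq_krullDim]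
  refine iSup_le fun s => ?_
  let s' : LTSeries X :=
    ⟨s.length, fun i => (s.toFun i).1, fun i => lt_iff_ne.2
      ⟨(subtype_specializes_iff _ _).1 (s.step i).1, fun e => (s.step i).2 (by
        rw [show s.toFun i.castSucc = s.toFun i.succ from Subtype.ext e]
        )⟩⟩
  have := length_add_le f hY hgen m s' (s.toFun (Fin.last _)).2
  exact_mod_cast (show s.length ≤ d - (m + 2) by
    have h' : s'.length = s.length := rfl
    omega)

end Groth.Agent.AlterAmpleLib
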