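import Groth.Agent.AlterAmpleLib.Main

/-!
The statement for alterations.
-/

set_option autoImplicit false
set_option backward.isDefEq.respectTransparency false
set_option linter.style.haveILetI false

universe u

open CategoryTheory CategoryTheory.Limits AlgebraicGeometry TopologicalSpace Opposite
open Groth.Agent.PullbackMod Groth.Agent.DCohLib Groth.Agent.AmpleFamLib

noncomputable section

namespace Groth.Agent.AlterAmpleLib

variable {X Y : Scheme.{u}}

theorem isBig_of_dense [IsLocallyNoetherian X] {U : X.Opens} (hU : Dense (U : Set X)) : IsBig U :=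
  fun _ hv => DimFormulaLib.mem_of_dense U.2 hU hv

theorem genFin_of_dense [IsLocallyNoetherian Y] (f : Y ⟶ X) (U : X.Opens) [IsFinite (f ∣_ U)]
    (hU' : Dense ((f ⁻¹ᵁ U : Y.Opens) : Set Y)) : GenFin f := fun y _ hy h he =>
  isDiscrete_fibre_over f U (isBig_of_dense hU' y (isMinPt_of_dim hy)) h he

theorem isIso_stalkMap_of_restrict (g : Y ⟶ X) (U : X.Opens) [IsIso (g ∣_ U)] {y : Y} (hy : g y ∈ U) :
    IsIso (g.stalkMap y) :=
  ((MorphismProperty.isomorphisms CommRingCat.{u}).arrow_mk_iso_iff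
    (morphismRestrictStalkMap g U ⟨y, hy⟩)).1 (inferInstanceAs (IsIso ((g ∣_ U).stalkMap ⟨y, hy⟩)))

theorem amp_iso {d : ℕ} {E E' : ℕ → X.Modules} (e : ∀ n, E n ≅ E' n) (h : Amp d E) : Amp d E' := fun F hF => by
  obtain ⟨n₀, hn₀⟩ := h F hF
  exact ⟨n₀, fun n hn => CurveLib.subsingleton_HH_iso (AmpleLib.tIso (Iso.refl F) (e n)) d (hn₀ n hn)⟩

theorem amp_iff (A : Type u) [CommRing A] [IsNoetherianRing A]
    (pX : X ⟶ Spec (CommRingCat.of A)) (pY : Y ⟶ Spec (CommRingCat.of A))
    [IsProper pX] [IsProper pY] (f : Y ⟶ X) [IsProper f] [Surjective f]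
    (U : X.Opens) (hU : Dense (U : Set X)) (hU' : Dense ((f ⁻¹ᵁ U : Y.Opens) : Set Y)) (hfin : IsFinite (f ∣_ U))
    (d : ℕ) (hX : topologicalKrullDim X = d) (hY : topologicalKrullDim Y = d)
    (E : ℕ → X.Modules) (hE : ∀ n, Coh.IsCoh (E n)) :
    Amp d E ↔ Amp d fun n => (Scheme.Modules.pullback f).obj (E n) := by
  haveI : IsLocallyNoetherian X := LocallyOfFiniteType.isLocallyNoetherian pX
  haveI : CompactSpace X := QuasiCompact.compactSpace_of_compactSpace pX
  haveI : IsNoetherian X := ⟨⟩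
  haveI : IsLocallyNoetherian Y := LocallyOfFiniteType.isLocallyNoetherian pY
  haveI : CompactSpace Y := QuasiCompact.compactSpace_of_compactSpace pY
  haveI : IsNoetherian Y := ⟨⟩
  haveI := hfin
  have hgenf := genFin_of_dense f U hU'
  refine ⟨amp_pullback f U (isBig_of_dense hU) hX.le hY.le hgenf hE, fun h => ?_⟩
  haveI : Nonempty Y := by
    by_contra hne
    rw [not_nonempty_iff] at hne
    rw [ASp.topologicalKrullDim_eq_krullDim, Order.krullDim_eq_bot] at hY
    exact WithBot.natCast_ne_bot d hY.symm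
  obtain ⟨UY, -, hbig⟩ := exists_affine_big (Classical.arbitrary Y)
  obtain ⟨Y', g, L, hgp, hgiso, hgd, hL⟩ := exists_chow_open pY UY.2
  haveI := hgp
  haveI := hgiso
  haveI : IsLocallyNoetherian Y' := LocallyOfFiniteType.isLocallyNoetherian g
  haveI : CompactSpace Y' := QuasiCompact.compactSpace_of_compactSpace g
  haveI : IsNoetherian Y' := ⟨⟩
  have hlift : ∀ y ∈ UY.1, ∃ y' : Y', g y' = y := fun y hy => by
    obtain ⟨w, hw⟩ := (g ∣_ UY.1).surjective ⟨y, hy⟩
    exact ⟨w.1, (morphismRestrict_base_coe g UY.1 w).symm.trans (congrArg Subtype.val hw)⟩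
  haveI : Surjective g := ⟨fun y => by
    obtain ⟨v, hv, hvy⟩ := exists_isMinPt y
    obtain ⟨v', rfl⟩ := hlift v (hbig v hv)
    obtain ⟨w, -, hw⟩ := g.isClosedMap.specializingMap hvy
    exact ⟨w, hw⟩⟩
  have hinj : ∀ a b : Y', g a ∈ UY.1 → g b = g a → b = a := fun a b ha hab => by
    have h' : (g ∣_ UY.1) ⟨b, show g b ∈ UY.1 by rw [hab]; exact ha⟩ = (g ∣_ UY.1) ⟨a, ha⟩ :=
      Subtype.ext ((morphismRestrict_base_coe g UY.1 _).trans (hab.trans (morphismRestrict_base_coe g UY.1 ⟨a, ha⟩).symm))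
    exact congrArg Subtype.val ((g ∣_ UY.1).isOpenEmbedding.injective h')
  have hgeng := genFin_of_dense g UY.1 hgd
  have hY' : topologicalKrullDim Y' ≤ (d : WithBot ℕ∞) := by
    refine (DimFormulaLib.topologicalKrullDim_le_add g 0 fun ξ hξ => ?_).trans (by rw [hY]; simp)
    have hmin : IsMinPt ξ := fun w hw => by
      have h1 : closure ({ξ} : Set Y') ⊆ closure {w} :=
        closure_minimal (Set.singleton_subset_iff.2 hw.mem_closure) isClosed_closure
      have h2 : closure ({w} : Set Y') ⊆ closure {ξ} := hξ.2 isIrreducible_singleton.closure h1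
      exact ((specializes_iff_mem_closure.2 (h2 (subset_closure rfl))).antisymm hw).eq.symm
    haveI := isIso_stalkMap_of_restrict g UY.1 (isBig_of_dense hgd ξ hmin)
    rw [BirQFLib.resTrdegAt_eq_zero g ξ inferInstance, Nat.cast_zero]
  have h₁ : Amp d fun n => (Scheme.Modules.pullback g).obj ((Scheme.Modules.pullback f).obj (E n)) :=
    amp_pullback g UY.1 hbig hY.le hY' hgeng (fun n => PullbackMod.isCoh_pullback f _ (hE n)) h
  have hgenh : GenFin (g ≫ f) := fun y' z hy' hsp he => by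
    have hy'U : g y' ∈ UY.1 := isBig_of_dense hgd y' (isMinPt_of_dim hy')
    have hmin : IsMinPt (g y') := fun w hw => by
      obtain ⟨w', rfl⟩ := hlift w (hw.mem_open UY.1.2 hy'U)
      have hw'U : g w' ∈ UY.1 := hw.mem_open UY.1.2 hy'U
      have h1 : (g ∣_ UY.1) ⟨w', hw'U⟩ ⤳ (g ∣_ UY.1) ⟨y', hy'U⟩ := by
        rw [subtype_specializes_iff]
        rw [morphismRestrict_base_coe, morphismRestrict_base_coe]
        exact hw
      rw [(g ∣_ UY.1).isOpenEmbedding.isInducing.specializes_iff, subtype_specializes_iff] at h1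
      rw [isMinPt_of_dim hy' w' h1]
    have h2 : g z = g y' := hgenf (g y') (g z) (dim_le_zero_of_isMinPt hmin) (hsp.map g.continuous)
      (by simpa using he)
    exact hinj y' z hy'U h2
  exact amp_of_pullback (g ≫ f) hX.le hY' hgenh hL hE
    (amp_iso (fun n => (Scheme.Modules.pullbackComp g f).app (E n)) h₁)

end Groth.Agent.AlterAmpleLib
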