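import Groth.Agent.SpDegen.Top
import Groth.Agent.GrothVan.Support

/-!
Vanishing along the Leray filtration.
-/

set_option autoImplicit false
set_option linter.style.haveILetI false

universe v v' u u' v₁ v₂ v₃ u₁ u₂ u₃

open CategoryTheory Limits Pretriangulated Triangulated

noncomputable section

namespace Groth.Agent.AlterAmpleLib

section Trunc

variable {D : Type u} [Category.{v} D] [Preadditive D] [HasZeroObject D] [HasShift D ℤ]
  [∀ (n : ℤ), (shiftFunctor D n).Additive] [Pretriangulated D] [IsTriangulated D]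
  {A : Type u'} [Category.{v'} A] [Abelian A] {t : TStructure D} {F : D ⥤ A} [F.IsHomological]
  [F.ShiftSequence ℤ]

theorem isZero_shift_of_truncLT (hge : SpSeqLib.VanishesBelow t F) (X : D) (n : ℕ)
    (h : IsZero ((F.shift (n : ℤ)).obj ((t.truncLT ((n : ℤ) + 1)).obj X))) :
    IsZero ((F.shift (n : ℤ)).obj X) := by
  have hge' : t.IsGE ((t.truncGE ((n : ℤ) + 1)).obj X) ((n : ℤ) + 1) := inferInstanceAs
    (t.IsGE ((t.triangleLTGE ((n : ℤ) + 1)).obj X).obj₃ ((n : ℤ) + 1))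
  exact (F.homologySequence_exact₂ _ (t.triangleLTGE_distinguished ((n : ℤ) + 1) X) (n : ℤ)).isZero_of_both_zeros
    (h.eq_of_src _ _) ((hge _ ((n : ℤ) + 1) n hge' (by lia)).eq_of_tgt _ _)

theorem isZero_truncLT_of_shift (hge : SpSeqLib.VanishesBelow t F) (X : D) (n : ℕ)
    (h : IsZero ((F.shift (n : ℤ)).obj X)) :
    IsZero ((F.shift (n : ℤ)).obj ((t.truncLT ((n : ℤ) + 1)).obj X)) := by
  have hge' : t.IsGE ((t.truncGE ((n : ℤ) + 1)).obj X) ((n : ℤ) + 1) := inferInstanceAs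
    (t.IsGE ((t.triangleLTGE ((n : ℤ) + 1)).obj X).obj₃ ((n : ℤ) + 1))
  exact (F.homologySequence_exact₁ _ (t.triangleLTGE_distinguished ((n : ℤ) + 1) X) ((n : ℤ) - 1) n
    (by lia)).isZero_of_both_zeros
    ((hge _ ((n : ℤ) + 1) ((n : ℤ) - 1) hge' (by lia)).eq_of_src _ _) (h.eq_of_tgt _ _)

/-- Down the truncations. -/
theorem isZero_truncLT_step (X : D) (n : ℤ) (k : ℕ)
    (h : IsZero ((F.shift n).obj ((t.truncLT ((k + 1 : ℕ) : ℤ)).obj X)))
    (hk : IsZero ((F.shift (n - 1)).obj (SpSeqLib.omegaSucc t X k))) :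
    IsZero ((F.shift n).obj ((t.truncLT (k : ℤ)).obj X)) := by
  let Y := (t.truncLT ((k + 1 : ℕ) : ℤ)).obj X
  haveI := t.isIso_truncLT_map_truncLTι_app (k : ℤ) ((k + 1 : ℕ) : ℤ) (by omega) X
  have h₃ : IsZero ((F.shift (n - 1)).obj ((t.truncGE (k : ℤ)).obj Y)) := hk
  exact ((F.homologySequence_exact₁ _ (t.triangleLTGE_distinguished (k : ℤ) Y) (n - 1) n
    (by lia)).isZero_of_both_zeros (h₃.eq_of_src _ _) (h.eq_of_tgt _ _)).of_iso
      ((F.shift n).mapIso (asIso ((t.truncLT (k : ℤ)).map ((t.truncLTι _).app X)))).symm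

/-- The lowest piece inherits the vanishing. -/
theorem isZero_omega_zero (X : D) [t.IsGE X 0] (n : ℕ)
    (h : IsZero ((F.shift (n : ℤ)).obj ((t.truncLT ((1 : ℕ) : ℤ)).obj X))) :
    IsZero ((F.shift (n : ℤ)).obj (SpSeqLib.omegaSucc t X ((0 : ℕ) : ℤ))) := by
  let Y := (t.truncLT ((1 : ℕ) : ℤ)).obj X
  have hi := t.isIso_truncLT_map_truncLTι_app ((0 : ℕ) : ℤ) ((1 : ℕ) : ℤ) (by omega) X
  have h₀ : IsZero ((F.shift ((n : ℤ) + 1)).obj ((t.truncLT ((0 : ℕ) : ℤ)).obj Y)) :=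
    ((F.shift ((n : ℤ) + 1)).map_isZero (t.isZero_truncLT_obj_of_isGE 0 X)).of_iso
      ((F.shift ((n : ℤ) + 1)).mapIso (@asIso _ _ _ _ _ hi))
  exact (F.homologySequence_exact₃ _ (t.triangleLTGE_distinguished ((0 : ℕ) : ℤ) Y) (n : ℤ) ((n : ℤ) + 1)
    rfl).isZero_of_both_zeros (h.eq_of_src _ _) (h₀.eq_of_tgt _ _)

end Trunc

attribute [local instance] HasDerivedCategory.standard

variable {A : Type u₁} [Category.{v₁} A] [Abelian A] {A' : Type u₂} [Category.{v₂} A'] [Abelian A']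
  {B : Type u₃} [Category.{v₃} B] [Abelian B] [HasInjectiveResolutions A] [EnoughInjectives A']
  (T : A ⥤ A') [T.Additive] (S : A' ⥤ B) [S.Additive] [PreservesFiniteLimits S]

theorem piece_iso (M : A) (q m p : ℕ) (hqm : q + p = m) :
    Nonempty (((SpSeqLib.rG S).shift (m : ℤ)).obj
      (SpSeqLib.omegaSucc DerivedCategory.Plus.TStructure.t (SpSeqLib.mapResolution T (injectiveResolution M))
        (q : ℤ)) ≅ (S.rightDerived p).obj ((T.rightDerived q).obj M)) := by
  let X := SpSeqLib.mapResolution T (injectiveResolution M)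
  obtain ⟨i⟩ := SpSeqLib.nonempty_omegaSucc_iso X (q : ℤ)
  obtain ⟨j⟩ := SpSeqLib.nonempty_rG_singleShift_iso S
    ((DerivedCategory.Plus.homologyFunctor A' (q : ℤ)).obj X) (q : ℤ) (p : ℤ) (m : ℤ) (by omega)
  obtain ⟨k⟩ := SpSeqLib.nonempty_rG_single_iso S ((DerivedCategory.Plus.homologyFunctor A' (q : ℤ)).obj X) p
  obtain ⟨l⟩ := SpSeqLib.nonempty_homology_mapResolution T (injectiveResolution M) q
  exact ⟨((SpSeqLib.rG S).shift (m : ℤ)).mapIso i ≪≫ j ≪≫ k ≪≫ (S.rightDerived p).mapIso l⟩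

/-- If all pieces of total degree `n` vanish then so does `Rⁿ (T ⋙ S)`. -/
theorem isZero_rightDerived_comp (hT : ∀ Q : A, Injective Q → SpSeqLib.IsAcyclicFor S (T.obj Q)) (M : A) (n : ℕ)
    (h : ∀ q p : ℕ, q + p = n → IsZero ((S.rightDerived p).obj ((T.rightDerived q).obj M))) :
    IsZero (((T ⋙ S).rightDerived n).obj M) := by
  let R := injectiveResolution M
  let X := SpSeqLib.mapResolution T R
  haveI : DerivedCategory.Plus.TStructure.t.IsGE X 0 := SpSeqLib.isGE_mapResolution T R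
  obtain ⟨a⟩ := SpSeqLib.nonempty_rG_mapResolution T S hT R n
  refine IsZero.of_iso ?_ a.symm
  refine isZero_shift_of_truncLT (SpSeqLib.vanishesBelow_rG S) X n ?_
  rw [show ((n : ℤ) + 1) = ((n + 1 : ℕ) : ℤ) by push_cast; rfl]
  refine SpDegen.isZero_shift_truncLT X (n : ℤ) (n + 1) fun q hq => ?_
  exact (h q (n - q) (by omega)).of_iso (piece_iso T S M q n (n - q) (by omega)).some

/-- If `Rⁿ (T ⋙ S)` and the pieces of total degree `n - 1` vanish then so does `Rⁿ S ∘ T`. -/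
theorem isZero_rightDerived_of_comp (hT : ∀ Q : A, Injective Q → SpSeqLib.IsAcyclicFor S (T.obj Q)) (M : A) (n : ℕ)
    (hn : IsZero (((T ⋙ S).rightDerived n).obj M))
    (h : ∀ q p : ℕ, 0 < q → q + p + 1 = n → IsZero ((S.rightDerived p).obj ((T.rightDerived q).obj M))) :
    IsZero ((S.rightDerived n).obj ((T.rightDerived 0).obj M)) := by
  let R := injectiveResolution M
  let X := SpSeqLib.mapResolution T R
  haveI : DerivedCategory.Plus.TStructure.t.IsGE X 0 := SpSeqLib.isGE_mapResolution T R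
  obtain ⟨a⟩ := SpSeqLib.nonempty_rG_mapResolution T S hT R n
  have key : ∀ j : ℕ, j ≤ n → IsZero (((SpSeqLib.rG S).shift (n : ℤ)).obj
      ((DerivedCategory.Plus.TStructure.t.truncLT ((n + 1 - j : ℕ) : ℤ)).obj X)) := by
    intro j
    induction j with
    | zero =>
      intro _
      rw [show ((n + 1 - 0 : ℕ) : ℤ) = (n : ℤ) + 1 by push_cast; rfl]
      exact isZero_truncLT_of_shift (SpSeqLib.vanishesBelow_rG S) X n (hn.of_iso a)
    | succ j ih =>
      intro hj
      refine isZero_truncLT_step X (n : ℤ) (n + 1 - (j + 1)) ?_ ?_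
      · rw [show n + 1 - (j + 1) + 1 = n + 1 - j by omega]
        exact ih (by omega)
      · rcases j with _ | j
        · exact SpSeqLib.vanishesBelow_rG S _ ((n + 1 - (0 + 1) : ℕ) : ℤ) ((n : ℤ) - 1) inferInstance (by omega)
        · obtain ⟨e⟩ := piece_iso T S M (n + 1 - (j + 1 + 1)) (n - 1) j (by omega)
          rw [show ((n : ℤ) - 1) = ((n - 1 : ℕ) : ℤ) by omega]
          exact (h (n + 1 - (j + 1 + 1)) j (by omega) (by omega)).of_iso e
  have h₁ := key n le_rfl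
  rw [show n + 1 - n = 1 by omega] at h₁
  exact (isZero_omega_zero X n h₁).of_iso (piece_iso T S M 0 n n (Nat.zero_add n)).some.symm

end Groth.Agent.AlterAmpleLib
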