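import Groth.Agent.AlterAmpleLib.Leray
import Groth.Agent.AlterAmpleLib.Dim
import Groth.Agent.AmpleFamLib.TopVanPush
import Groth.Agent.CurveLib.FibreVanish
import Groth.Agent.CMRegLib.Family
import Groth.Agent.ModTensor.Basic
import Groth.Agent.S0403

/-!
Top cohomology and direct images: comparison and relative vanishing.
-/

set_option autoImplicit false
set_option backward.isDefEq.respectTransparency false
set_option linter.style.haveILetI false

universe u

open CategoryTheory CategoryTheory.Limits AlgebraicGeometry TopologicalSpace Opposite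
open Groth.Agent.DCohLib Groth.Agent.SpDegen Groth.Agent.AmpleFamLib

noncomputable section

namespace Groth.Agent.AlterAmpleLib

section Top

variable {T : TopCat.{u}}

theorem isZero_of_stalks (G : CohTop.Ab T)
    (h : ∀ x, Subsingleton (TopCat.Presheaf.stalk (X := T) G.obj x : AddCommGrpCat.{u})) : IsZero G := by
  rw [IsZero.iff_id_eq_zero]
  refine Sheaf.hom_ext (NatTrans.ext (funext fun U => ?_))
  ext s
  exact TopCat.Presheaf.section_ext G U.unop _ _ fun x _ => @Subsingleton.elim _ (h x) _ _

theorem subsingleton_H_iff (G : CohTop.Ab T) (n : ℕ) :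
    Subsingleton (CohTop.H G n) ↔ IsZero (((secTop T).rightDerived n).obj G) := by
  obtain ⟨e⟩ := nonempty_secTop_rightDerived (X := T) n G
  constructor
  · intro h
    haveI := e.symm.toEquiv.subsingleton
    exact AddCommGrpCat.isZero_of_subsingleton _
  · intro h
    haveI := AddCommGrpCat.subsingleton_of_isZero h
    exact e.toEquiv.subsingleton

theorem isZero_derived_of_support [NoetherianSpace T] (G : CohTop.Ab T) {C : Set T} (hC : IsClosed C)
    (hG : ∀ x ∉ C, Subsingleton (TopCat.Presheaf.stalk (X := T) G.obj x : AddCommGrpCat.{u})) (p : ℕ)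
    (hdim : C.Nonempty → ∃ m < p, topologicalKrullDim C ≤ (m : WithBot ℕ∞)) :
    IsZero (((secTop T).rightDerived p).obj G) := by
  rcases C.eq_empty_or_nonempty with h | h
  · exact Functor.map_isZero _ (isZero_of_stalks G fun x => hG x (h ▸ Set.notMem_empty x))
  · obtain ⟨m, hm, hd⟩ := hdim h
    exact (subsingleton_H_iff G p).1 (GrothVan.subsingleton_H_of_support G hC hG hd hm)

end Top

variable {X Y : Scheme.{u}} (f : Y ⟶ X)

theorem isClosed_bigLocus [IsProper f] (m : ℕ) : IsClosed (bigLocus f m) :=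
  (S0403.result f (m : WithBot ℕ∞)).isClosed_compl

theorem isZero_derived_bigLocus [IsNoetherian X] [IsProper f] {d : ℕ} (hY : topologicalKrullDim Y ≤ (d : WithBot ℕ∞))
    (hgen : GenFin f) (G : CohTop.Ab X.toPresheafedSpace.carrier) (m : ℕ)
    (hG : ∀ x ∉ bigLocus f m, Subsingleton
      (TopCat.Presheaf.stalk (X := X.toPresheafedSpace.carrier) G.obj x : AddCommGrpCat.{u}))
    (p : ℕ) (hp : d < p + m + 2) : IsZero (((secTop X.toPresheafedSpace.carrier).rightDerived p).obj G) := by
  refine isZero_derived_of_support G (isClosed_bigLocus f m) hG p fun hne => ?_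
  obtain ⟨h1, h2⟩ := dim_bigLocus f hY hgen m (isClosed_bigLocus f m) hne
  exact ⟨d - (m + 2), by omega, h2⟩

theorem isZero_push_derived_zero (G : CohTop.Ab Y.toPresheafedSpace.carrier) (p : ℕ) :
    Nonempty ((((secTop X.toPresheafedSpace.carrier).rightDerived p).obj (((CohTop.push f.base).rightDerived 0).obj G)) ≅
      ((secTop X.toPresheafedSpace.carrier).rightDerived p).obj ((CohTop.push f.base).obj G)) := by
  haveI : PreservesFiniteLimits (CohTop.push f.base) :=
    haveI : PreservesLimitsOfSize.{0, 0} (CohTop.push f.base) :=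
      (TopCat.Sheaf.pullbackPushforwardAdjunction AddCommGrpCat.{u} f.base).rightAdjoint_preservesLimits
    inferInstance
  exact ⟨((secTop X.toPresheafedSpace.carrier).rightDerived p).mapIso ((CohTop.push f.base).rightDerivedZeroIsoSelf.app G)⟩

/-- Top cohomology of the source is governed by the direct image. -/
theorem subsingleton_of_push [IsNoetherian X] [IsProper f] {d : ℕ} (hY : topologicalKrullDim Y ≤ (d : WithBot ℕ∞))
    (hgen : GenFin f) {M : Y.Modules} (hM : Coh.IsCoh M)
    (h : Subsingleton (Coh.HH X ((Scheme.Modules.pushforward f).obj M) d)) : Subsingleton (Coh.HH Y M d) := by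
  refine (subsingleton_H_iff (T := Y.toPresheafedSpace.carrier) (Coh.toAb M) d).2 ?_
  obtain ⟨c⟩ := SpSeqLib.nonempty_rightDerived_congr
    (show secTop Y.toPresheafedSpace.carrier ≅ CohTop.push f.base ⋙ secTop X.toPresheafedSpace.carrier from Iso.refl _)
    d (Coh.toAb M)
  refine IsZero.of_iso (isZero_rightDerived_comp (CohTop.push f.base) (secTop X.toPresheafedSpace.carrier)
    (isAcyclicFor_push_injective f.base) (Coh.toAb M) d fun q p hqp => ?_) c
  rcases q with _ | m
  · obtain ⟨e⟩ := isZero_push_derived_zero f (Coh.toAb M) p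
    refine IsZero.of_iso ?_ e
    rw [show p = d by omega]
    exact (subsingleton_H_iff (T := X.toPresheafedSpace.carrier) _ d).1 h
  · refine isZero_derived_bigLocus f hY hgen _ m (fun x hx => ?_) p (by omega)
    exact AddCommGrpCat.subsingleton_of_isZero
      (CurveLib.isZero_stalk_rpush f x m (not_not.1 hx) M hM (m + 1) (Nat.lt_succ_self m))

/-- If the higher direct images live over large fibres, top cohomology of the direct image vanishes with that upstairs. -/
theorem subsingleton_push [IsNoetherian X] [IsProper f] {d : ℕ} (hY : topologicalKrullDim Y ≤ (d : WithBot ℕ∞))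
    (hgen : GenFin f) {M : Y.Modules}
    (hR : ∀ q : ℕ, 0 < q → ∀ x ∉ bigLocus f q,
      IsZero (TopCat.Presheaf.stalk ((Coh.RpushAb f q).obj (Coh.toAb M)).obj x))
    (h : Subsingleton (Coh.HH Y M d)) : Subsingleton (Coh.HH X ((Scheme.Modules.pushforward f).obj M) d) := by
  refine (subsingleton_H_iff (T := X.toPresheafedSpace.carrier) _ d).2 ?_
  obtain ⟨c⟩ := SpSeqLib.nonempty_rightDerived_congr
    (show secTop Y.toPresheafedSpace.carrier ≅ CohTop.push f.base ⋙ secTop X.toPresheafedSpace.carrier from Iso.refl _)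
    d (Coh.toAb M)
  obtain ⟨e⟩ := isZero_push_derived_zero f (Coh.toAb M) d
  refine IsZero.of_iso ?_ e.symm
  refine isZero_rightDerived_of_comp (CohTop.push f.base) (secTop X.toPresheafedSpace.carrier)
    (isAcyclicFor_push_injective f.base) (Coh.toAb M) d
    (((subsingleton_H_iff (T := Y.toPresheafedSpace.carrier) (Coh.toAb M) d).1 h).of_iso c.symm) fun q p hq hqp => ?_
  exact isZero_derived_bigLocus f hY hgen _ q
    (fun x hx => AddCommGrpCat.subsingleton_of_isZero (hR q hq x hx)) p (by omega)

/-- Cohomology of a module cut into finitely many pieces. -/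
theorem subsingleton_HH_of_total {ι : Type} [Fintype ι] {M : X.Modules} (N : ι → X.Modules)
    (p : ∀ i, M ⟶ N i) (s : ∀ i, N i ⟶ M) (htot : ∑ i, p i ≫ s i = 𝟙 M) (q : ℕ)
    (h : ∀ i, Subsingleton (Coh.HH X (N i) q)) : Subsingleton (Coh.HH X M q) := by
  refine subsingleton_of_forall_eq 0 fun x => ?_
  haveI : (QCohLib.toAbF X).Additive := inferInstance
  let ev : (M ⟶ M) →+ Coh.HH X M q :=
    AddMonoidHom.mk' (fun φ => Sheaf.H.map ((QCohLib.toAbF X).map φ) q x) fun a b => by
      rw [Functor.map_add]
      exact Sheaf.H.map_add_apply _ _ x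
  have h1 : ev (𝟙 M) = x := by
    show Sheaf.H.map ((QCohLib.toAbF X).map (𝟙 M)) q x = x
    rw [CategoryTheory.Functor.map_id]
    exact Sheaf.H.map_id_apply x
  rw [← h1, ← htot, map_sum]
  refine Finset.sum_eq_zero fun i _ => ?_
  show Sheaf.H.map ((QCohLib.toAbF X).map (p i ≫ s i)) q x = 0
  rw [Functor.map_comp, Sheaf.H.map_comp_apply,
    @Subsingleton.elim _ (h i) (Sheaf.H.map ((QCohLib.toAbF X).map (p i)) q x) 0]
  exact map_zero _

/-- Tensoring with a twist keeps the vanishing of the top direct image at a point. -/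
theorem isZero_stalk_rpush_tensor [IsProper f] [IsLocallyNoetherian X] (x : X) (q : ℕ)
    (hd : topologicalKrullDim ↥(f.fiber x) ≤ q) {G : Y.Modules} (hG : Coh.IsCoh G) {E : X.Modules}
    (hE : Coh.IsCoh E) (h : IsZero (TopCat.Presheaf.stalk ((Coh.RpushAb f q).obj (Coh.toAb G)).obj x)) :
    IsZero (TopCat.Presheaf.stalk
      ((Coh.RpushAb f q).obj (Coh.toAb (tmod G ((Scheme.Modules.pullback f).obj E)))).obj x) := by
  haveI : IsLocallyNoetherian Y := LocallyOfFiniteType.isLocallyNoetherian f
  let M := tmod G ((Scheme.Modules.pullback f).obj E)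
  have hM : Coh.IsCoh M := CurveLib.isCoh_tmod hG (PullbackMod.isCoh_pullback f E hE)
  haveI := hM.1
  haveI := hG.1
  let R := X.presheaf.stalk x
  let X₁ := pullback f (X.fromSpecStalk x)
  letI : X₁.Over (Spec (CommRingCat.of R)) := ⟨pullback.snd f (X.fromSpecStalk x)⟩
  let g : X₁ ⟶ Y := pullback.fst f (X.fromSpecStalk x)
  let r : X₁ ⟶ Spec (CommRingCat.of R) := X₁ ↘ Spec (CommRingCat.of R)
  have hsq : IsPullback g r f (X.fromSpecStalk x) := IsPullback.of_hasPullback f (X.fromSpecStalk x)
  haveI : IsProper r := MorphismProperty.of_isPullback (P := @IsProper) hsq ‹IsProper f›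
  haveI : IsPreimmersion g := MorphismProperty.of_isPullback (P := @IsPreimmersion) hsq.flip inferInstance
  haveI : IsLocallyNoetherian X₁ := LocallyOfFiniteType.isLocallyNoetherian r
  haveI : CategoryTheory.HasInjectiveResolutions Y.Modules := inferInstance
  let C := r.base ⁻¹' {IsLocalRing.closedPoint R}
  have hmap : ∀ z ∈ C, g z ∈ f ⁻¹' {x} := fun z hz => by
    show f (g z) = x
    rw [← Scheme.Hom.comp_apply, hsq.w, Scheme.Hom.comp_apply, show r z = _ from hz]
    exact Scheme.fromSpecStalk_closedPoint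
  have hdim : topologicalKrullDim C ≤ q := by
    refine le_trans ?_ ((IsHomeomorph.topologicalKrullDim_eq _ (f.fiberHomeo x).isHomeomorph).symm.le.trans hd)
    let ι : C → f ⁻¹' {x} := fun z => ⟨g z.1, hmap z.1 z.2⟩
    refine Topology.IsInducing.topologicalKrullDim_le (f := ι) ?_
    exact Topology.IsInducing.of_comp (by fun_prop) continuous_subtype_val
      (g.isEmbedding.isInducing.comp Topology.IsInducing.subtypeVal)
  let E₁ := (Scheme.Modules.pullback (X.fromSpecStalk x)).obj E
  have hE₁ : Coh.IsCoh E₁ := PullbackMod.isCoh_pullback _ E hE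
  haveI := hE₁.1
  obtain ⟨N, p, hp⟩ := CMRegLib.exists_epi_free_qcoh hE₁.1 hE₁.2 (AmpleLib.isGloballyGenerated_of_isQuasiAffine _)
  let G₁ := (Scheme.Modules.pullback g).obj G
  have hG₁ : Coh.IsCoh G₁ := PullbackMod.isCoh_pullback g G hG
  let T := (DCoh.tensorBi (X := X₁)).obj G₁
  let P := Scheme.Modules.pullback r
  haveI : PreservesColimitsOfSize.{0, 0} P :=
    (Scheme.Modules.pullbackPushforwardAdjunction r).leftAdjoint_preservesColimits
  haveI : P.Additive := Functor.additive_of_preserves_binary_products _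
  haveI := hp
  haveI : Epi (P.map p) := inferInstance
  let π : T.obj (P.obj (FlatMod.freeMod _ N)) ⟶ T.obj (P.obj E₁) := T.map (P.map p)
  haveI : Epi π := DCohMore.epi_tmod_right _ _
  -- the free term
  have hfree : Subsingleton (Coh.HH X₁ (T.obj (P.obj (FlatMod.freeMod (Spec (CommRingCat.of R)) N))) q) := by
    obtain ⟨eG⟩ := RpushLib.nonempty_stalk_equiv f G x q X₁ g hsq
    have hz : IsZero (((Coh.Rpush f q).obj G).presheaf.stalk x) :=
      IsZero.of_iso h ((TopCat.Presheaf.stalkFunctor AddCommGrpCat.{u} x).mapIso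
        ((sheafToPresheaf _ _).mapIso ((RpushLib.toAbRpushIso f q).app G)))
    haveI := AddCommGrpCat.subsingleton_of_isZero hz
    have hG0 : Subsingleton (Coh.HH X₁ G₁ q) := eG.symm.toEquiv.subsingleton
    let F : Fin N → (Spec (CommRingCat.of R)).Modules := fun _ => Coh.structureModule _
    let pr : ∀ j, (∐ F) ⟶ F j := fun j => Sigma.desc fun i => if e : i = j then eqToHom (congrArg F e) else 0
    have htot : ∑ j, pr j ≫ Sigma.ι F j = 𝟙 (∐ F) := by
      refine Sigma.hom_ext _ _ fun i => ?_
      rw [Preadditive.comp_sum, Category.comp_id, Finset.sum_eq_single i]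
      · simp [pr]
      · intro j _ hj
        simp [pr, Ne.symm hj]
      · simp
    haveI : T.Additive := ModTensor.additive_tensorBi_obj _ _
    refine subsingleton_HH_of_total (fun j => T.obj (P.obj (F j))) (fun j => T.map (P.map (pr j)))
      (fun j => T.map (P.map (Sigma.ι F j))) ?_ q fun j => ?_
    · show ∑ j, T.map (P.map (pr j)) ≫ T.map (P.map (Sigma.ι F j)) = _
      simp only [← Functor.map_comp, ← Functor.map_sum, htot, CategoryTheory.Functor.map_id]
    · exact CurveLib.subsingleton_HH_iso
        (T.mapIso (AmpleLib.pullO r) ≪≫ (ModTensor.tensorUnitRight X₁.sheaf).app G₁).symm q hG0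
  have hkC : Coh.IsCoh (kernel π) := (QCohLib.isCoh_kernel_cokernel π
    (CurveLib.isCoh_tmod hG₁ (PullbackMod.isCoh_pullback r _ (DCohLib.isCoh_of_isFinLocFree (DCohLib.isFinLocFree_freeMod N))))
    (CurveLib.isCoh_tmod hG₁ (PullbackMod.isCoh_pullback r _ hE₁))).1
  have hker : Subsingleton (Coh.HH X₁ (kernel π) (q + 1)) :=
    CurveLib.subsingleton_HH_of_closedFibre (R := R) hkC hdim (Nat.lt_succ_self q)
  have hS : (ShortComplex.mk (kernel.ι π) π (kernel.condition π)).ShortExact :=
    ShortComplex.ShortExact.mk' (ShortComplex.exact_of_f_is_kernel _ (kernelIsKernel π)) inferInstance inferInstance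
  have hmain : Subsingleton (Coh.HH X₁ (T.obj (P.obj E₁)) q) := FinSurjLib.subsingleton_right hS q hfree hker
  let e₁ : P.obj E₁ ≅ (Scheme.Modules.pullback g).obj ((Scheme.Modules.pullback f).obj E) :=
    (Scheme.Modules.pullbackComp r (X.fromSpecStalk x)).app E ≪≫
      (Scheme.Modules.pullbackCongr hsq.w.symm).app E ≪≫ ((Scheme.Modules.pullbackComp g f).app E).symm
  have hM₁ : Subsingleton (Coh.HH X₁ ((Scheme.Modules.pullback g).obj M) q) :=
    CurveLib.subsingleton_HH_iso (T.mapIso e₁ ≪≫ (AmpleLib.pullTensor g G _).symm) q hmain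
  obtain ⟨e⟩ := RpushLib.nonempty_stalk_equiv f M x q X₁ g hsq
  haveI : Subsingleton (((Coh.Rpush f q).obj M).presheaf.stalk x) := e.toEquiv.subsingleton
  refine IsZero.of_iso ?_ ((TopCat.Presheaf.stalkFunctor AddCommGrpCat.{u} x).mapIso
    ((sheafToPresheaf _ _).mapIso ((RpushLib.toAbRpushIso f q).app M))).symm
  exact AddCommGrpCat.isZero_of_subsingleton (((Coh.Rpush f q).obj M).presheaf.stalk x)

end Groth.Agent.AlterAmpleLib
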