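import Groth.Agent.AlterAmpleLib.ProjIso
import Groth.Agent.AlterAmpleLib.Vanish
import Groth.Agent.AmpleFamLib.ChowOpen
import Groth.Agent.AmpleFamLib.Descend
import Groth.Agent.FinSurjLib.Engine
import Groth.Agent.HilbLib.Basic
import Groth.Agent.BirQFLib.Basic
import Groth.Agent.DimFormulaLib.Misc
import Groth.Agent.DimFormulaLib.Closed
import Groth.Agent.ProjBundleLib.FTQuot
import Groth.Agent.AmpleEmb.Generated

/-!
Cohomological ampleness in the top degree along alterations.
-/

set_option autoImplicit false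
set_option backward.isDefEq.respectTransparency false
set_option linter.style.haveILetI false
set_option maxHeartbeats 1000000

universe u

open CategoryTheory CategoryTheory.Limits AlgebraicGeometry TopologicalSpace Opposite
open Groth.Agent.PullbackMod Groth.Agent.DCohLib Groth.Agent.AmpleFamLib Groth.Agent.DevLib

noncomputable section

namespace Groth.Agent.AlterAmpleLib

variable {X Y : Scheme.{u}}

/-- Eventual vanishing in degree `d` of all twists. -/
def Amp (d : ℕ) (E : ℕ → X.Modules) : Prop :=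
  ∀ F : X.Modules, Coh.IsCoh F → ∃ n₀ : ℕ, ∀ n : ℕ, n₀ ≤ n → Subsingleton (Coh.HH X (CohB1.tensorMod F (E n)) d)

theorem isMinPt_of_dim {y : X} (hy : ringKrullDim (X.presheaf.stalk y) ≤ 0) : IsMinPt y := by
  letI := specializationPreorder X
  rw [ringKrullDim_stalk_eq_coheight] at hy
  have h0 : Order.coheight y = 0 := nonpos_iff_eq_zero.1 (by exact_mod_cast hy)
  intro w hw
  exact (Specializes.antisymm hw (Order.coheight_eq_zero.1 h0 hw)).eq

theorem one_le_dim_iff {y : X} : 1 ≤ ringKrullDim (X.presheaf.stalk y) ↔ ¬ ringKrullDim (X.presheaf.stalk y) ≤ 0 := by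
  rw [ringKrullDim_stalk_eq_coheight]
  constructor
  · intro h h'
    have : (1 : WithBot ℕ∞) ≤ 0 := h.trans h'
    exact absurd this (by decide)
  · intro h
    have h' : Order.coheight y ≠ 0 := fun e => h (by rw [e]; rfl)
    exact_mod_cast ENat.one_le_iff_ne_zero.2 h'

theorem dim_le_zero_of_isMinPt {y : X} (hy : IsMinPt y) : ringKrullDim (X.presheaf.stalk y) ≤ 0 := by
  rw [ringKrullDim_stalk_eq_coheight]
  have h : Order.coheight y = 0 := Order.coheight_eq_zero.2 fun w hw =>
    le_of_eq (hy w (Scheme.le_iff_specializes.1 hw))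
  rw [h]
  rfl

theorem one_le_of_notMem {U : X.Opens} (hU : IsBig U) {x : X} (hx : x ∉ U) :
    1 ≤ ringKrullDim (X.presheaf.stalk x) :=
  one_le_dim_iff.2 fun h => hx (hU x (isMinPt_of_dim h))

/-- Modules away from the points without generalisations have no top cohomology. -/
theorem subsingleton_small [IsNoetherian X] {d : ℕ} (hX : topologicalKrullDim X ≤ (d : WithBot ℕ∞))
    {C : Set X} (hC : IsClosed C) (hC' : ∀ x ∈ C, ¬ ringKrullDim (X.presheaf.stalk x) ≤ 0)
    {M : X.Modules} (hM : CohB1.support M ⊆ C) {j : ℕ} (hj : d ≤ j) : Subsingleton (Coh.HH X M j) :=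
  subsingleton_HH_of_codim hC (m := 1) hX (fun x hx => one_le_dim_iff.2 (hC' x hx)) hM (by omega)

theorem support_tmod_subset (A B : X.Modules) : CohB1.support (tmod A B) ⊆ CohB1.support A := by
  intro x hx hA
  refine hx ?_
  haveI : Subsingleton (A.presheaf.stalk x) := hA
  exact (stalkTensor x A B).symm.toEquiv.subsingleton

theorem surjective_stalk_tensor_left {A B : X.Modules} (α : A ⟶ B) (T : X.Modules) {y : X}
    (h : Function.Surjective (stalkLin α y)) :
    Function.Surjective (stalkLin ((CurveLib.tensR T).map α) y) := by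
  intro z
  obtain ⟨w, rfl⟩ := (stalkTensor y B T).surjective z
  obtain ⟨v, rfl⟩ := LinearMap.rTensor_surjective (T.presheaf.stalk y) h w
  exact ⟨stalkTensor y A T v, stalkTensor_natural_left y α v⟩

/-- Forward: top-degree vanishing passes to the alteration. -/
theorem amp_pullback [IsNoetherian X] (f : Y ⟶ X) [IsProper f] (U : X.Opens) [IsFinite (f ∣_ U)] (hU : IsBig U)
    {d : ℕ} (hX : topologicalKrullDim X ≤ (d : WithBot ℕ∞)) (hY : topologicalKrullDim Y ≤ (d : WithBot ℕ∞))
    (hgen : GenFin f) {E : ℕ → X.Modules} (hE : ∀ n, Coh.IsCoh (E n)) (h : Amp d E) :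
    Amp d fun n => (Scheme.Modules.pullback f).obj (E n) := by
  intro F hF
  haveI := hF.1
  haveI : IsLocallyNoetherian Y := LocallyOfFiniteType.isLocallyNoetherian f
  have hT := RpushLib.isCoh_push f hF
  obtain ⟨n₀, hn₀⟩ := h _ hT
  refine ⟨n₀, fun n hn => ?_⟩
  refine subsingleton_of_push f hY hgen (CurveLib.isCoh_tmod hF (PullbackMod.isCoh_pullback f _ (hE n))) ?_
  refine subsingleton_HH_target (projMap f F (E n)) d (hn₀ n hn) (CurveLib.subsingleton_HH_of_dim _ hX (Nat.lt_succ_self d))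
    (subsingleton_small hX U.2.isClosed_compl (fun x hx => one_le_dim_iff.1 (one_le_of_notMem hU hx))
      (support_cokernel_subset_of_surjective _ _ fun y hy => ?_) le_rfl)
  obtain ⟨O, hO, hyO, hOU⟩ := exists_isAffineOpen_mem_and_subset (x := y) (U := U) hy
  haveI : IsFinite (f ∣_ O) := morphismRestrict_of_le' (P := @IsFinite) f hOU ‹IsFinite (f ∣_ U)›
  haveI := epi_restrict_projMap_of_affine f O hO (hE n).1 (hE n).2 hF.1
  exact (surjective_stalkLin_restrict O.ι _ (⟨y, hyO⟩ : (O : Scheme.{u}))).1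
    ((epi_iff_stalk _).1 inferInstance _)

/-- A proper morphism is finite near a point with finite fibre. -/
theorem exists_finite_nhd [IsNoetherian X] (f : Y ⟶ X) [IsProper f] {x : X} (hx : x ∉ bigLocus f 0) :
    ∃ O : X.Opens, x ∈ O ∧ IsAffineOpen O ∧ IsFinite (f ∣_ O) := by
  let V : X.Opens := ⟨(bigLocus f 0)ᶜ, (isClosed_bigLocus f 0).isOpen_compl⟩
  obtain ⟨O, hO, hxO, hOV⟩ := exists_isAffineOpen_mem_and_subset (x := x) (U := V) hx
  refine ⟨O, hxO, hO, ?_⟩
  haveI : LocallyQuasiFinite (f ∣_ O) := by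
    rw [locallyQuasiFinite_iff_isDiscrete_preimage_singleton]
    intro z
    have hd : topologicalKrullDim ↥(f.fiber z.1) ≤ 0 := by simpa using not_not.1 (hOV z.2)
    haveI : LocallyOfFiniteType (f.fiberToSpecResidueField z.1) :=
      inferInstanceAs (LocallyOfFiniteType (pullback.snd f (X.fromSpecResidueField z.1)))
    haveI : IsLocallyNoetherian (f.fiber z.1) :=
      LocallyOfFiniteType.isLocallyNoetherian (f.fiberToSpecResidueField z.1)
    haveI := IsLocallyArtinian.of_topologicalKrullDim_le_zero hd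
    have h1 : _root_.IsDiscrete (f ⁻¹' {z.1}) := by
      rw [← Scheme.Hom.range_fiberι, ← Set.image_univ]
      exact (isDiscrete_univ_iff.mpr inferInstance).image (f.fiberι z.1).isEmbedding.toIsInducing
    refine (h1.preimage' (f := Subtype.val) continuous_subtype_val.continuousOn fun w => ?_).mono ?_
    · exact (Set.subsingleton_singleton.preimage Subtype.val_injective).isDiscrete
    · intro w hw
      exact (morphismRestrict_base_coe f O w).symm.trans (congrArg Subtype.val (show (f ∣_ O) w = z from hw))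
  exact IsFinite.of_isProper_of_locallyQuasiFinite _

/-- Twisted direct images have eventual vanishing. -/
theorem key [IsNoetherian X] (f : Y ⟶ X) [IsProper f]
    {d : ℕ} (hX : topologicalKrullDim X ≤ (d : WithBot ℕ∞)) (hY : topologicalKrullDim Y ≤ (d : WithBot ℕ∞))
    (hgen : GenFin f) {L : Y.Modules} (hL : CohB1.IsAmple L) {E : ℕ → X.Modules} (hE : ∀ n, Coh.IsCoh (E n))
    (h : Amp d fun n => (Scheme.Modules.pullback f).obj (E n)) {G : Y.Modules} (hG : Coh.IsCoh G) :
    ∃ k₀ : ℕ, ∀ k, k₀ ≤ k → ∀ I : X.Modules, Coh.IsCoh I → ∃ n₀ : ℕ, ∀ n, n₀ ≤ n →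
      Subsingleton (Coh.HH X
        (tmod (tmod ((Scheme.Modules.pushforward f).obj (tmod G (CohB1.tensorPow L k))) I) (E n)) d) := by
  haveI : IsLocallyNoetherian Y := LocallyOfFiniteType.isLocallyNoetherian f
  haveI : CompactSpace Y := QuasiCompact.compactSpace_of_compactSpace f
  obtain ⟨k₀, hk₀⟩ := AmpleEmb.exists_isZero_rpushAb_tensorPow f hL.1
    (fun W hW => by
      haveI : CompactSpace (f ⁻¹ᵁ W : Y.Opens) :=
        isCompact_iff_compactSpace.1 (f.isCompact_preimage hW.isCompact)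
      exact AmpleLib.isAmple_restrict _ hL) hG
  refine ⟨k₀, fun k hk I hI => ?_⟩
  let Gk := tmod G (CohB1.tensorPow L k)
  have hGk : Coh.IsCoh Gk := CurveLib.isCoh_tmod hG (CurveLib.isCoh_of_isInvertible (AmpleLib.isInvertible_tensorPow hL.1 k))
  haveI := hGk.1
  obtain ⟨n₀, hn₀⟩ := h _ (CurveLib.isCoh_tmod hGk (PullbackMod.isCoh_pullback f I hI))
  refine ⟨n₀, fun n hn => ?_⟩
  let E' := tmod I (E n)
  have hE' : Coh.IsCoh E' := CurveLib.isCoh_tmod hI (hE n)
  refine CurveLib.subsingleton_HH_iso (AmpleLib.assoc ((Scheme.Modules.pushforward f).obj Gk) I (E n)).symm d ?_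
  have h1 : Subsingleton (Coh.HH Y (tmod Gk ((Scheme.Modules.pullback f).obj E')) d) :=
    CurveLib.subsingleton_HH_iso (AmpleLib.assoc Gk _ _ ≪≫
      AmpleLib.tIso (Iso.refl Gk) (AmpleLib.pullTensor f I (E n)).symm) d (hn₀ n hn)
  have hR : ∀ q : ℕ, 0 < q → ∀ x ∉ bigLocus f q, IsZero (TopCat.Presheaf.stalk
      ((Coh.RpushAb f q).obj (Coh.toAb (tmod Gk ((Scheme.Modules.pullback f).obj E')))).obj x) := fun q hq x hx =>
    isZero_stalk_rpush_tensor f x q (not_not.1 hx) hGk hE'
      ((TopCat.Presheaf.stalkFunctor AddCommGrpCat.{u} x).map_isZero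
        ((sheafToPresheaf _ _).map_isZero (hk₀ k hk q hq)))
  have h2 := subsingleton_push f hY hgen hR h1
  have hbij : ∀ x ∉ bigLocus f 0, Function.Bijective (stalkLin (projMap f Gk E') x) := fun x hx => by
    obtain ⟨O, hxO, hO, hfin⟩ := exists_finite_nhd f hx
    haveI := hfin
    exact bijective_stalk_of_isIso_restrict _ O (isIso_restrict_projMap_of_affine f O hO hE' hGk.1) hxO
  have hsmall : ∀ {M : X.Modules}, CohB1.support M ⊆ bigLocus f 0 → ∀ j, d ≤ j + 1 →
      Subsingleton (Coh.HH X M j) := fun {M} hM j hj => by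
    rcases (bigLocus f 0).eq_empty_or_nonempty with he | hne
    · exact subsingleton_HH_of_isZero (isZero_iff_support.2 (Set.subset_empty_iff.1 (he ▸ hM))) j
    · obtain ⟨h0, hdim⟩ := dim_bigLocus f hY hgen 0 (isClosed_bigLocus f 0) hne
      exact CurveLib.subsingleton_HH_of_support M (isClosed_bigLocus f 0) hM hdim (by omega)
  have hK := support_kernel_subset_of_injective (projMap f Gk E') (bigLocus f 0)ᶜ fun y hy => (hbij y hy).1
  have hC := support_cokernel_subset_of_surjective (projMap f Gk E') (bigLocus f 0)ᶜ fun y hy => (hbij y hy).2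
  rw [compl_compl] at hK hC
  rcases d with _ | j
  · haveI : IsIso (projMap f Gk E') := (isIso_iff_stalk _).2 fun x => hbij x fun hx => by
      obtain ⟨h0, -⟩ := dim_bigLocus f hY hgen 0 (isClosed_bigLocus f 0) ⟨x, hx⟩
      omega
    exact CurveLib.subsingleton_HH_iso (asIso (projMap f Gk E')).symm 0 h2
  · exact subsingleton_HH_source (projMap f Gk E') j h2 (hsmall hK _ (by omega)) (hsmall hC _ le_rfl)

/-- Twisting a coherent module supported on the closure of `η` so that its direct image is nonzero at the image. -/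
theorem nonzero_push_of_generated [IsNoetherian X] (f : Y ⟶ X) [IsProper f] {η : Y} {G : Y.Modules}
    (hG : Coh.IsCoh G) (hg : Curv2.IsGloballyGenerated G) (hη : η ∈ CohB1.support G) :
    f η ∈ CohB1.support ((Scheme.Modules.pushforward f).obj G) := by
  intro h0
  haveI : Subsingleton (((Scheme.Modules.pushforward f).obj G).presheaf.stalk (f η)) := h0
  refine hη (subsingleton_of_forall_eq 0 fun z => ?_)
  have hz : z ∈ (⊤ : Submodule (Y.presheaf.stalk η) (G.presheaf.stalk η)) := trivial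
  rw [← ProjBundleLib.span_germ_of_isGloballyGenerated hg η] at hz
  induction hz using Submodule.span_induction with
  | mem a ha =>
    obtain ⟨σ, rfl⟩ := ha
    obtain ⟨W, hW, i₁, i₂, e⟩ := TopCat.Presheaf.germ_eq
      ((Scheme.Modules.pushforward f).obj G).presheaf (f η) (U := ⊤) (V := ⊤) trivial trivial σ 0
      (Subsingleton.elim _ _)
    rw [map_zero] at e
    have e' : G.presheaf.map (homOfLE (show f ⁻¹ᵁ W ≤ (⊤ : Y.Opens) from le_top)).op σ = 0 := e
    show G.presheaf.germ ⊤ η _ σ = 0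
    rw [← TopCat.Presheaf.germ_res_apply G.presheaf (homOfLE (show f ⁻¹ᵁ W ≤ (⊤ : Y.Opens) from le_top)) η hW σ,
      e', map_zero]
  | zero => rfl
  | add a b _ _ ha hb => rw [ha, hb, add_zero]
  | smul r a _ ha => rw [ha, smul_zero]

theorem supp_push_closure (f : Y ⟶ X) {η : Y} {G : Y.Modules} (hG : ∀ z ∈ CohB1.support G, η ⤳ z) :
    ∀ y ∈ CohB1.support ((Scheme.Modules.pushforward f).obj G), f η ⤳ y := by
  intro y hy
  by_contra hsp
  obtain ⟨W, hW₀, hyW, hW⟩ : ∃ W : Set X, IsOpen W ∧ y ∈ W ∧ f η ∉ W := not_specializes_iff_exists_open.1 hsp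
  let W' : X.Opens := ⟨W, hW₀⟩
  refine hy (subsingleton_of_forall_eq 0 fun z => ?_)
  obtain ⟨O, hO, s, rfl⟩ := TopCat.Presheaf.exists_germ_eq ((Scheme.Modules.pushforward f).obj G).presheaf z
  rw [← TopCat.Presheaf.germ_res_apply _ (homOfLE (inf_le_left : O ⊓ W' ≤ O)) y ⟨hO, hyW⟩ s]
  haveI : Subsingleton Γ((Scheme.Modules.pushforward f).obj G, O ⊓ W') := by
    refine subsingleton_of_forall_eq 0 fun t => ?_
    refine TopCat.Presheaf.section_ext ⟨G.presheaf, G.isSheaf⟩ (f ⁻¹ᵁ (O ⊓ W')) _ _ fun w hw => ?_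
    have : Subsingleton (G.presheaf.stalk w) := by
      by_contra hns
      exact hW (((hG w hns).map f.continuous).mem_open hW₀ hw.2)
    exact @Subsingleton.elim _ this _ _
  rw [Subsingleton.elim ((((Scheme.Modules.pushforward f).obj G).presheaf.map
    (homOfLE (inf_le_left : O ⊓ W' ≤ O)).op) s) 0, map_zero]

/-- Backward: top-degree vanishing descends from a projective alteration. -/
theorem amp_of_pullback [IsNoetherian X] (f : Y ⟶ X) [IsProper f] [Surjective f]
    {d : ℕ} (hX : topologicalKrullDim X ≤ (d : WithBot ℕ∞)) (hY : topologicalKrullDim Y ≤ (d : WithBot ℕ∞))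
    (hgen : GenFin f) {L : Y.Modules} (hL : CohB1.IsAmple L) {E : ℕ → X.Modules} (hE : ∀ n, Coh.IsCoh (E n))
    (h : Amp d fun n => (Scheme.Modules.pullback f).obj (E n)) : Amp d E := by
  intro F hF
  haveI : IsLocallyNoetherian Y := LocallyOfFiniteType.isLocallyNoetherian f
  haveI : CompactSpace Y := QuasiCompact.compactSpace_of_compactSpace f
  haveI : IsNoetherian Y := ⟨⟩
  let P : X.Modules → Prop := fun M => ∃ n₀, ∀ n, n₀ ≤ n → Subsingleton (Coh.HH X (tmod M (E n)) d)
  have htop : ∀ M : X.Modules, Subsingleton (Coh.HH X M (d + 1)) := fun M =>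
    CurveLib.subsingleton_HH_of_dim M hX (Nat.lt_succ_self d)
  refine DevLib.devissage Set.univ P ?_ ?_ ?_ ?_ F hF (Set.subset_univ _)
  · rintro A B ⟨e⟩ ⟨n₀, hn⟩
    exact ⟨n₀, fun n hn' => CurveLib.subsingleton_HH_iso ((CurveLib.tensR _).mapIso e) d (hn n hn')⟩
  · intro N hN
    exact ⟨0, fun n _ => subsingleton_HH_of_isZero ((CurveLib.tensR (E n)).map_isZero hN) d⟩
  · rintro S hS _ _ _ _ ⟨a, ha⟩ ⟨b, hb⟩
    refine ⟨max a b, fun n hn => ?_⟩
    haveI := hS.epi_g
    let S' := S.map (CurveLib.tensR (E n))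
    have hex : S'.Exact := hS.exact.map_of_epi_of_preservesCokernel _ hS.epi_g inferInstance
    haveI : Epi S'.g := inferInstanceAs (Epi ((CurveLib.tensR (E n)).map S.g))
    haveI := hex.epi_kernelLift
    have hk : Subsingleton (Coh.HH X (kernel S'.g) d) :=
      subsingleton_HH_target (kernel.lift S'.g S'.f S'.zero) d (ha n (le_of_max_le_left hn)) (htop _)
        (subsingleton_HH_of_isZero (isZero_cokernel_of_epi _) d)
    have hs : (ShortComplex.mk (kernel.ι S'.g) S'.g (kernel.condition S'.g)).ShortExact :=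
      ShortComplex.ShortExact.mk' (ShortComplex.exact_of_f_is_kernel _ (kernelIsKernel _)) inferInstance inferInstance
    exact SerreAff.subsingleton_mid hs d hk (hb n (le_of_max_le_right hn))
  intro ξ _ _ Q hQ hsm
  have hQc := hQ.coh
  by_cases hξ : ringKrullDim (X.presheaf.stalk ξ) ≤ 0
  swap
  · refine ⟨0, fun n _ => subsingleton_small hX isClosed_closure (fun x hx hx0 => hξ ?_)
      ((support_tmod_subset Q (E n)).trans fun y hy => specializes_iff_mem_closure.1 (hQ.supp y hy)) le_rfl⟩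
    rwa [isMinPt_of_dim hx0 ξ (specializes_iff_mem_closure.2 hx)]
  obtain ⟨η, hη⟩ := f.surjective ξ
  obtain ⟨Z, i, hi, hZ, -, hgenZ⟩ := exists_integral_closed η
  haveI := hi
  haveI := hZ
  haveI : IsLocallyNoetherian Z := LocallyOfFiniteType.isLocallyNoetherian i
  let G := (Scheme.Modules.pushforward i).obj (Coh.structureModule Z)
  have hG : Coh.IsCoh G := isCoh_pushforward_closed i (isCoh_structureModule Z)
  obtain ⟨k₁, hk₁⟩ := AmpleEmb.eventually_isGloballyGenerated hL hG
  obtain ⟨k₀, hk₀⟩ := key f hX hY hgen hL hE h hG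
  let k := max k₀ k₁
  let Gk := tmod G (CohB1.tensorPow L k)
  have hLk := AmpleLib.isInvertible_tensorPow hL.1 k
  have hGk : Coh.IsCoh Gk := CurveLib.isCoh_tmod hG (CurveLib.isCoh_of_isInvertible hLk)
  have hGsupp : ∀ z ∈ CohB1.support Gk, η ⤳ z := fun z hz =>
    hgenZ ▸ FinSurjLib.supp_push i (Coh.structureModule Z) z (by rwa [HilbLib.support_tensor hLk] at hz)
  have hηG : η ∈ CohB1.support Gk := by
    rw [HilbLib.support_tensor hLk]
    exact hgenZ ▸ FinSurjLib.nontrivial_stalk_push i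
  let T := (Scheme.Modules.pushforward f).obj Gk
  haveI := hGk.1
  have hT : Coh.IsCoh T := RpushLib.isCoh_push f hGk
  haveI := hT.1
  subst hη
  have hTs : ∀ y ∈ CohB1.support T, f η ⤳ y := supp_push_closure f hGsupp
  haveI : Nontrivial (T.presheaf.stalk (f η)) := not_subsingleton_iff_nontrivial.1
    (nonzero_push_of_generated f hGk (hk₁ k (le_max_right _ _)) hηG)
  have hB : Absorbs (⊥ : Submodule (X.presheaf.stalk (f η)) (T.presheaf.stalk (f η))) :=
    absorbs_bot (W₀ := ⊤) trivial fun y _ hy => hTs y hy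
  haveI := finite_stalk_of_isFT hT.2 (f η)
  obtain ⟨S, hS, -⟩ := (eq_top_or_exists_le_coatom
    (⊥ : Submodule (X.presheaf.stalk (f η)) (T.presheaf.stalk (f η)))).resolve_left bot_ne_top
  have hSabs : Absorbs S := hB.mono bot_le
  let jS := subAtMap (le_top : S ≤ ⊤)
  have hsimple : IsSimpleModule (X.presheaf.stalk (f η))
      (↥(⊤ : Submodule (X.presheaf.stalk (f η)) (T.presheaf.stalk (f η))) ⧸ S.comap (Submodule.subtype _)) := by
    haveI : IsSimpleModule (X.presheaf.stalk (f η)) (T.presheaf.stalk (f η) ⧸ S) :=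
      isSimpleModule_iff_isCoatom.2 hS
    refine IsSimpleModule.congr (Submodule.Quotient.equiv _ S Submodule.topEquiv ?_)
    ext z
    exact ⟨fun ⟨w, hw, e⟩ => e ▸ hw, fun hz => ⟨⟨z, trivial⟩, hz, rfl⟩⟩
  have hG' := isPiece_coker (ξ := f η) hT hSabs le_top hTs hsimple jS (subAtMap_ι _)
  haveI hiTop := isIso_subAtι_top (M := T) (f η)
  let π : T ⟶ cokernel jS := inv (subAtι ⊤) ≫ cokernel.π jS
  have hπ : Function.Surjective (stalkLin π (f η)) := by
    rw [stalkLin_comp]
    refine (coker_surjective jS _).comp ?_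
    exact ((isIso_iff_stalk _).1 inferInstance _).2
  obtain ⟨H, p, q, hH, hp, hq, hps, hqs⟩ := exists_common (ξ := f η) hQ hG'
  have hK : Coh.IsCoh (cokernel q) := (QCohLib.isCoh_kernel_cokernel q hH hG'.coh).2
  haveI := hK.1
  let J := ClSubLib.annIdeal (cokernel q) hK.2
  let I := ClSub.idealMod J
  let ι := ClSub.idealModι J
  have hI : Coh.IsCoh I := RefOne.isCoh_idealMod J
  have hιb : Function.Surjective (stalkLin ι (f η)) := fun b => by
    obtain ⟨r, rfl⟩ := (ParaFLib.bijective_oneG (f η)).2 b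
    refine (HilbObsLib.mem_range_idealModι J (f η) r).2 ?_
    rw [HilbObsLib.stalkIdeal_eq_top J fun hmem =>
      notMem_support_coker q hqs ((ClSubLib.range_annIdeal _ _).le hmem)]
    trivial
  haveI : Mono ι := inferInstanceAs (Mono (kernel.ι _))
  have hib : Function.Bijective (stalkLin ι (f η)) := ⟨(mono_iff_stalk ι).1 inferInstance _, hιb⟩
  let B := DCoh.tensorBi (X := X)
  let ρ := Groth.Agent.ModTensor.tensorUnitRight X.sheaf
  let w₀ : tmod T I ⟶ cokernel jS := (B.obj T).map ι ≫ (ρ.app T).hom ≫ π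
  have hw₀ : w₀ ≫ cokernel.π q = 0 := by
    let u := π ≫ cokernel.π q
    have h1 : (B.map u).app _ ≫ (ρ.app (cokernel q)).hom = (ρ.app T).hom ≫ u := ρ.hom.naturality u
    have h2 : (B.obj T).map ι ≫ (B.map u).app _ = (B.map u).app _ ≫ (B.obj (cokernel q)).map ι :=
      (B.map u).naturality ι
    show ((B.obj T).map ι ≫ (ρ.app T).hom ≫ π) ≫ cokernel.π q = 0
    rw [Category.assoc, Category.assoc]
    refine (congrArg ((B.obj T).map ι ≫ ·) h1).symm.trans ?_
    refine (Category.assoc _ _ _).symm.trans ((congrArg (· ≫ _) (h2.trans ?_)).trans zero_comp)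
    rw [tensor_annIdeal_eq_zero]
    exact comp_zero
  obtain ⟨v₀, hv₀⟩ : ∃ v₀ : tmod T I ⟶ H, v₀ ≫ q = w₀ := by
    haveI := hq
    exact ⟨Abelian.monoLift q w₀ hw₀, Abelian.monoLift_comp _ _ _⟩
  have hw₀s : Function.Surjective (stalkLin w₀ (f η)) := by
    have h1 : Function.Surjective (stalkLin ((B.obj T).map ι) (f η)) :=
      (bijective_stalk_tensor_right ι T hib).2
    have h2 : Function.Surjective (stalkLin (ρ.app T).hom (f η)) :=
      ((isIso_iff_stalk (M := tmod T (Coh.structureModule X)) (N := T) (ρ.app T).hom).1 (Iso.isIso_hom _) _).2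
    show Function.Surjective (stalkLin ((B.obj T).map ι ≫ (ρ.app T).hom ≫ π) (f η))
    rw [stalkLin_comp, stalkLin_comp]
    exact (hπ.comp h2).comp h1
  let v := v₀ ≫ p
  have hvs : Function.Surjective (stalkLin v (f η)) := by
    have h1 : Function.Surjective (stalkLin v₀ (f η)) := fun y => by
      obtain ⟨z, hz⟩ := hw₀s (stalkLin q _ y)
      refine ⟨z, (mono_iff_stalk q).1 hq _ ?_⟩
      rw [← LinearMap.comp_apply, ← stalkLin_comp, hv₀]
      exact hz
    rw [stalkLin_comp]
    exact hps.comp h1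
  obtain ⟨n₀, hn₀⟩ := hk₀ k (le_max_left _ _) I hI
  refine ⟨n₀, fun n hn => ?_⟩
  let vE := (CurveLib.tensR (E n)).map v
  have hQE : Coh.IsCoh (tmod Q (E n)) := CurveLib.isCoh_tmod hQc (hE n)
  have hCoh := (QCohLib.isCoh_kernel_cokernel vE
    (CurveLib.isCoh_tmod (CurveLib.isCoh_tmod hT hI) (hE n)) hQE).2
  refine subsingleton_HH_target vE d (hn₀ n hn) (htop _)
    (subsingleton_small hX (isClosed_support hCoh) (fun x hx hx0 => ?_) subset_rfl le_rfl)
  have hxQ : x ∈ CohB1.support Q := support_tmod_subset Q (E n) (fun hs => hx (by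
    haveI : Subsingleton (((CurveLib.tensR (E n)).obj Q).presheaf.stalk x) := hs
    exact Function.Surjective.subsingleton (show Function.Surjective (stalkLin (cokernel.π vE) x) from
      (epi_iff_stalk _).1 inferInstance x)))
  have hxe : f η = x := isMinPt_of_dim hx0 _ (hQ.supp x hxQ)
  subst hxe
  refine support_cokernel_subset_of_surjective vE {y | y = f η} (fun y hy => ?_) hx rfl
  rw [show y = f η from hy]
  exact surjective_stalk_tensor_left v (E n) hvs

end Groth.Agent.AlterAmpleLib
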