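import Groth.Agent.AmpleFamLib.ProjEpi
import Groth.Agent.DevLib.Closed
import Groth.Agent.H1ZeroLib.Relative
import Groth.Agent.DCohLib.PerfCoh

/-!
The projection map of a coherent module along an affine morphism is an isomorphism.
-/

set_option autoImplicit false
set_option backward.isDefEq.respectTransparency false
set_option linter.style.haveILetI false

universe u v v' w w'

open CategoryTheory CategoryTheory.Limits AlgebraicGeometry TopologicalSpace
open Groth.Agent.DCohLib

noncomputable section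

namespace Groth.Agent.AlterAmpleLib

/-- Two right exact rows with isomorphisms on the first two terms. -/
theorem isIso_τ₃_of_rightExact {C : Type w} [Category.{v} C] [Abelian C] {A B : ShortComplex C} (φ : A ⟶ B)
    [IsIso φ.τ₁] [IsIso φ.τ₂] (hA : A.Exact) [Epi A.g] (hB : B.Exact) [Epi B.g] : IsIso φ.τ₃ := by
  have hz : B.f ≫ inv φ.τ₂ ≫ A.g = 0 := by
    rw [← cancel_epi φ.τ₁, ← Category.assoc, φ.comm₁₂, Category.assoc, IsIso.hom_inv_id_assoc, A.zero, comp_zero]
  refine ⟨⟨hB.desc (inv φ.τ₂ ≫ A.g) hz, ?_, ?_⟩⟩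
  · rw [← cancel_epi A.g, ← Category.assoc, ← φ.comm₂₃, Category.assoc, hB.g_desc, IsIso.hom_inv_id_assoc,
      Category.comp_id]
  · rw [← cancel_epi B.g, ← Category.assoc, hB.g_desc, Category.assoc, ← φ.comm₂₃, IsIso.inv_hom_id_assoc,
      Category.comp_id]

/-- A functor preserving a kernel, and the factorization through it, preserves exactness. -/
theorem exact_map_of_epi {C : Type w} [Category.{v} C] [Abelian C] {D : Type w'} [Category.{v'} D] [Abelian D]
    (G : C ⥤ D) [G.PreservesZeroMorphisms] (S : ShortComplex C) [PreservesLimit (parallelPair S.g 0) G]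
    (L : S.X₁ ⟶ kernel S.g) (hL : L ≫ kernel.ι S.g = S.f) (hG : Epi (G.map L)) : (S.map G).Exact := by
  let K : ShortComplex D := ShortComplex.mk (G.map (kernel.ι S.g)) (G.map S.g) (by
    rw [← G.map_comp, kernel.condition, G.map_zero])
  have hK : K.Exact := ShortComplex.exact_of_f_is_kernel K
    (isLimitForkMapOfIsLimit' G (kernel.condition S.g) (kernelIsKernel S.g))
  let φ : S.map G ⟶ K :=
    { τ₁ := G.map L
      τ₂ := 𝟙 _
      τ₃ := 𝟙 _
      comm₁₂ := by
        show G.map L ≫ G.map (kernel.ι S.g) = G.map S.f ≫ 𝟙 _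
        rw [← G.map_comp, hL, Category.comp_id]
      comm₂₃ := by
        show 𝟙 _ ≫ G.map S.g = G.map S.g ≫ 𝟙 _
        rw [Category.comp_id, Category.id_comp] }
  haveI : Epi φ.τ₁ := hG
  haveI : IsIso φ.τ₂ := inferInstanceAs (IsIso (𝟙 _))
  haveI : Mono φ.τ₃ := inferInstanceAs (Mono (𝟙 _))
  exact (ShortComplex.exact_iff_of_epi_of_isIso_of_mono φ).2 hK

/-- Direct images along affine morphisms are exact on quasi-coherent modules. -/
theorem exact_push_of_qcoh {X Y : Scheme.{u}} (f : X ⟶ Y) [IsAffineHom f] (S : ShortComplex X.Modules)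
    (h₁ : Coh.IsQCoh S.X₁) (h₂ : Coh.IsQCoh S.X₂) (h₃ : Coh.IsQCoh S.X₃) (hS : S.Exact) :
    (S.map (Scheme.Modules.pushforward f)).Exact := by
  haveI := h₂
  haveI := h₃
  haveI := hS.epi_kernelLift
  haveI : PreservesLimitsOfSize.{0, 0} (Scheme.Modules.pushforward f) :=
    (Scheme.Modules.pullbackPushforwardAdjunction f).rightAdjoint_preservesLimits
  exact exact_map_of_epi _ S (kernel.lift S.g S.f S.zero) (kernel.lift_ι _ _ _)
    (DCohMore.epi_push_of_qcoh f h₁ (H1ZeroLib.isQCoh_kernel S.g) _)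

variable {X Y : Scheme.{u}} (f : X ⟶ Y) (V : Y.Opens)

theorem exists_epi_free_lift [IsLocallyNoetherian Y] (hV : IsAffineOpen V) {E : Y.Modules}
    (hE : Coh.IsCoh ((Scheme.Modules.restrictFunctor V.ι).obj E)) :
    ∃ (n : ℕ) (c : (CxOX.extZero V.ι).obj (FlatMod.freeMod (V : Scheme.{u}) n) ⟶ E),
      Epi ((Scheme.Modules.restrictFunctor V.ι).map c) := by
  haveI : IsAffine (V : Scheme.{u}) := hV
  haveI := hE.1
  let R := Scheme.Modules.restrictFunctor V.ι
  let adj := CxOX.extZeroAdj V.ι
  obtain ⟨n, p, hp⟩ := CMRegLib.exists_epi_free_qcoh (M := R.obj E) hE.1 hE.2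
    (AmpleLib.isGloballyGenerated_of_isQuasiAffine _)
  let F := FlatMod.freeMod (V : Scheme.{u}) n
  refine ⟨n, (adj.homEquiv F E).symm p, ?_⟩
  have hc : adj.unit.app F ≫ R.map ((adj.homEquiv F E).symm p) = p :=
    (adj.homEquiv_unit ..).symm.trans ((adj.homEquiv _ _).apply_symm_apply p)
  haveI : Epi (adj.unit.app F ≫ R.map ((adj.homEquiv F E).symm p)) := by rw [hc]; exact hp
  exact epi_of_epi (adj.unit.app F) (R.map ((adj.homEquiv F E).symm p))

theorem isCoh_restrict_extZero [IsLocallyNoetherian Y] (n : ℕ) :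
    Coh.IsCoh ((Scheme.Modules.restrictFunctor V.ι).obj
      ((CxOX.extZero V.ι).obj (FlatMod.freeMod (V : Scheme.{u}) n))) := by
  haveI : IsIso ((CxOX.extZeroAdj V.ι).unit.app (FlatMod.freeMod (V : Scheme.{u}) n)) := inferInstance
  exact DCohLib.isCoh_iso (asIso ((CxOX.extZeroAdj V.ι).unit.app (FlatMod.freeMod (V : Scheme.{u}) n)))
    (DCohLib.isCoh_of_isFinLocFree (DCohLib.isFinLocFree_freeMod n))

/-- The projection formula for coherent modules over an affine open with affine preimage. -/
theorem isIso_restrict_projMap_of_affine [IsLocallyNoetherian Y] [IsAffineHom (f ∣_ V)] (hV : IsAffineOpen V)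
    {E : Y.Modules} (hE : Coh.IsCoh E) {M : X.Modules} (hM : Coh.IsQCoh M) :
    IsIso ((Scheme.Modules.restrictFunctor V.ι).map (projMap f M E)) := by
  haveI := hM
  let R := Scheme.Modules.restrictFunctor V.ι
  let W := f ⁻¹ᵁ V
  have hRE : Coh.IsCoh (R.obj E) := ProjBundleLib.isCoh_restrict_open hE.1 hE.2 V
  obtain ⟨n, c, hc⟩ := exists_epi_free_lift V hV hRE
  haveI : PreservesFiniteLimits R := inferInstance
  have hRK : Coh.IsCoh (R.obj (kernel c)) :=
    DCohLib.isCoh_iso (PreservesKernel.iso R c).symm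
      (QCohLib.isCoh_kernel_cokernel (R.map c) (isCoh_restrict_extZero V n) hRE).1
  obtain ⟨m, q, hq⟩ := exists_epi_free_lift V hV hRK
  let S : ShortComplex Y.Modules := ShortComplex.mk (q ≫ kernel.ι c) c (by
    rw [Category.assoc, kernel.condition, comp_zero])
  have hS : (S.map R).Exact := exact_map_of_epi R S q rfl hq
  haveI : Epi (S.map R).g := hc
  -- the two right exact functors
  let T := (DCoh.tensorBi (X := Y)).obj ((Scheme.Modules.pushforward f).obj M)
  let Q := (DCoh.tensorBi (X := X)).obj M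
  let A : Y.Modules ⥤ (V : Scheme.{u}).Modules := T ⋙ R
  let B : Y.Modules ⥤ (V : Scheme.{u}).Modules :=
    Scheme.Modules.pullback f ⋙ Q ⋙ Scheme.Modules.pushforward f ⋙ R
  let α : A ⟶ B :=
    { app := fun N => R.map (projMap f M N)
      naturality := fun N N' g => by
        show R.map (T.map g) ≫ R.map (projMap f M N') =
          R.map (projMap f M N) ≫ R.map ((Scheme.Modules.pushforward f).map (Q.map ((Scheme.Modules.pullback f).map g)))
        rw [← R.map_comp, ← R.map_comp]
        exact congrArg R.map (projMap_natural_right f M g) }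
  -- their descriptions on `V`
  let TV := (DCoh.tensorBi (X := (V : Scheme.{u}))).obj (R.obj ((Scheme.Modules.pushforward f).obj M))
  let RW := Scheme.Modules.restrictFunctor W.ι
  let QW := (DCoh.tensorBi (X := (W : Scheme.{u}))).obj (RW.obj M)
  let PW := Scheme.Modules.pullback (f ∣_ V) ⋙ QW
  let eA : A ≅ R ⋙ TV := restrictTensorBiIso V.ι _
  let eB : B ≅ R ⋙ PW ⋙ Scheme.Modules.pushforward (f ∣_ V) :=
    Functor.isoWhiskerLeft (Scheme.Modules.pullback f ⋙ Q) (restrictPushIso f V) ≪≫
    Functor.isoWhiskerRight (Functor.isoWhiskerLeft (Scheme.Modules.pullback f) (restrictTensorBiIso W.ι M))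
      (Scheme.Modules.pushforward (f ∣_ V)) ≪≫
    Functor.isoWhiskerRight (pullResIso f V) (QW ⋙ Scheme.Modules.pushforward (f ∣_ V))
  haveI : PreservesFiniteColimits TV :=
    haveI : PreservesColimitsOfSize.{u, u} TV := ModTensor.preservesColimitsOfSize_tensorBi_obj _ _
    PreservesColimitsOfSize.preservesFiniteColimits _
  haveI : PreservesFiniteColimits QW :=
    haveI : PreservesColimitsOfSize.{u, u} QW := ModTensor.preservesColimitsOfSize_tensorBi_obj _ _
    PreservesColimitsOfSize.preservesFiniteColimits _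
  haveI : PreservesFiniteColimits (Scheme.Modules.pullback (f ∣_ V)) :=
    haveI : PreservesColimitsOfSize.{0, 0} (Scheme.Modules.pullback (f ∣_ V)) :=
      (Scheme.Modules.pullbackPushforwardAdjunction (f ∣_ V)).leftAdjoint_preservesColimits
    inferInstance
  haveI : TV.Additive := Functor.additive_of_preserves_binary_products _
  haveI : PW.Additive := Functor.additive_of_preserves_binary_products _
  have hA' : ((S.map R).map TV).Exact ∧ Epi ((S.map R).map TV).g :=
    ⟨hS.map_of_epi_of_preservesCokernel _ hc inferInstance, inferInstanceAs (Epi (TV.map (R.map c)))⟩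
  have hP : ((S.map R).map PW).Exact ∧ Epi ((S.map R).map PW).g :=
    ⟨hS.map_of_epi_of_preservesCokernel _ hc inferInstance, inferInstanceAs (Epi (PW.map (R.map c)))⟩
  have hqc : ∀ N : Y.Modules, Coh.IsQCoh (R.obj N) → Coh.IsQCoh (PW.obj (R.obj N)) := fun N hN => by
    haveI := hN
    exact @BCLib.isQCoh_tmod _ _ _ inferInstance (PullbackMod.isQCoh_pullback (f ∣_ V) (R.obj N))
  have hB' : (((S.map R).map PW).map (Scheme.Modules.pushforward (f ∣_ V))).Exact :=
    exact_push_of_qcoh (f ∣_ V) _ (hqc _ (isCoh_restrict_extZero V m).1) (hqc _ (isCoh_restrict_extZero V n).1)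
      (hqc _ hRE.1) hP.1
  haveI := hP.2
  have hB'g : Epi (((S.map R).map PW).map (Scheme.Modules.pushforward (f ∣_ V))).g :=
    DCohMore.epi_push_of_qcoh (f ∣_ V) (hqc _ (isCoh_restrict_extZero V n).1) (hqc _ hRE.1) ((S.map R).map PW).g
  haveI : A.PreservesZeroMorphisms := ⟨fun N N' => by
    show R.map (T.map 0) = 0
    rw [Functor.map_zero, Functor.map_zero]⟩
  haveI : B.PreservesZeroMorphisms := ⟨fun N N' => by
    show R.map ((Scheme.Modules.pushforward f).map (Q.map ((Scheme.Modules.pullback f).map 0))) = 0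
    rw [Functor.map_zero, Functor.map_zero, Functor.map_zero, Functor.map_zero]⟩
  let φ : S.map A ⟶ S.map B := S.mapNatTrans α
  have hA : (S.map A).Exact := (ShortComplex.exact_iff_of_iso (S.mapNatIso eA)).2 hA'.1
  haveI : Epi (S.map A).g :=
    ((MorphismProperty.epimorphisms _).arrow_mk_iso_iff
      (Arrow.isoMk (eA.app _) (eA.app _) (eA.hom.naturality c).symm)).2 hA'.2
  have hB : (S.map B).Exact := (ShortComplex.exact_iff_of_iso (S.mapNatIso eB)).2 hB'
  haveI : Epi (S.map B).g :=
    ((MorphismProperty.epimorphisms _).arrow_mk_iso_iff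
      (Arrow.isoMk (eB.app _) (eB.app _) (eB.hom.naturality c).symm)).2 hB'g
  haveI : IsIso φ.τ₁ := isIso_restrict_projTrans_free f V M m (Iso.refl _)
  haveI : IsIso φ.τ₂ := isIso_restrict_projTrans_free f V M n (Iso.refl _)
  exact isIso_τ₃_of_rightExact φ hA hB

end Groth.Agent.AlterAmpleLib
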